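import Mathlib
import Cfsg.Agent.Lib.U3S.Red2

/-! Standard subgroups of type `U₃(2ⁿ)` (plans/U3S.md, package RED2): the frame keeps the torus of the model. -/

set_option autoImplicit false
set_option linter.unusedSectionVars false

namespace CfsgLib.U3S

open Subgroup Cfsg CfsgLib.Tech CfsgLib.Suz2 CfsgLib.SzS

variable {F E : Type*} [Field F] [Field E] [Algebra F E] [Finite F] [Finite E] {G : Type*} [Group G] [Finite G]

theorem Co.Mod.exists_frH' {D : Co F E G} {A H T : Subgroup G} {k : G → E} (M : D.Mod A H k) {t : G} (tt : t * t = 1)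
    (t1 : t ≠ 1) (tA : ∀ a ∈ A, t * a = a * t) (nA : ∀ g : G, g * t = t * g → g ∈ normalizer (A : Set G))
    (hT : IsSylowIn 2 T (centralizer {t})) (hQ : D.Q = T ⊓ A)
    (hχ : ∀ g ∈ T, ∃ γ : E ≃+* E, ∀ x y, ∃ y', g * D.q x y * g⁻¹ = D.q (γ x) y') :
    ∃ D' : Fr F E G, D'.t = t ∧ D'.A = A ∧ D'.T = T ∧ D'.H = H ∧ D'.k = k := by
  have := Fact.mk Nat.prime_two
  have := fld_cyclic E
  choose! χ hχ using hχ
  have TA : T ≤ normalizer (A : Set G) := fun g hg => nA g (mem_centralizer_singleton_iff.1 (hT.le hg))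
  have QT : D.Q ≤ T := hQ ▸ inf_le_left
  have TQ : T ≤ normalizer (D.Q : Set G) := fun g hg => mem_normalizer_of_forall (by
    rintro _ ⟨x, y, rfl⟩
    obtain ⟨y', e⟩ := hχ g hg x y
    exact ⟨_, _, e⟩)
  let φ : ↥(T ⊓ normalizer (H : Set G)) →* (E ≃+* E) := MonoidHom.mk' (fun g => χ g) fun a b => RingEquiv.ext fun x => by
    obtain ⟨y, e⟩ := hχ _ (a * b).2.1 x 0
    obtain ⟨y1, e1⟩ := hχ _ b.2.1 x 0
    obtain ⟨y2, e2⟩ := hχ _ a.2.1 (χ b x) y1
    rw [← e1, show ∀ u : G, a * (b * u * (b : G)⁻¹) * (a : G)⁻¹ = (a * b :) * u * ((a * b :) : G)⁻¹ from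
      fun u => by simp [mul_assoc], e] at e2
    exact (D.q_inj e2).1
  have ker : ∀ g, φ g = 1 → (g : G) ∈ T ⊓ centralizer (A : Set G) := fun g e =>
    ⟨g.2.1, M.cent (TA g.2.1) g.2.2 fun x y => by simpa [show χ g = 1 from e] using hχ g g.2.1 x y⟩
  obtain ⟨f, gen, f1⟩ : ∃ f, (∀ g, ∃ i : ℕ, φ g = φ f ^ i) ∧ (φ f = 1 → f = 1) := by
    obtain ⟨⟨_, f, rfl⟩, hf⟩ := IsCyclic.exists_monoid_generator (α := φ.range)
    have h1 : ∀ g, ∃ i : ℕ, φ g = φ f ^ i := fun g => by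
      obtain ⟨i, e⟩ := hf ⟨φ g, g, rfl⟩
      exact ⟨i, (congrArg Subtype.val e).symm⟩
    by_cases h : φ f = 1
    · exact ⟨1, by simpa [h] using h1, fun _ => rfl⟩
    · exact ⟨f, h1, fun e => absurd e h⟩
  have kc : ∀ g : ↥(T ⊓ normalizer (H : Set G)), ∀ h ∈ H, k (g * h * (g : G)⁻¹) = φ g (k h) := fun g h hh =>
    M.k_conj one_ne_zero (fun x y => by rw [one_mul]; exact hχ g g.2.1 x y) hh (one_mem _)
      (conj_mem_of_mem_normalizer g.2.2 hh) (one_mul _).symm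
  have same : ∀ a b, φ a = φ b → ∀ h ∈ H, (a : G) * h * (a : G)⁻¹ = b * h * (b : G)⁻¹ := fun a b e h hh => by
    have h1 := (ker (b⁻¹ * a) (by rw [map_mul, map_inv, e, inv_mul_cancel])).2 h (M.HA hh)
    calc _ = b * ((b : G)⁻¹ * a * h) * (a : G)⁻¹ := by group
      _ = _ := by rw [← show h * ((b : G)⁻¹ * a) = (b : G)⁻¹ * a * h from h1]; group
  obtain ⟨h1, lam, h1H, k1, gl, fh⟩ : ∃ h1 lam, h1 ∈ H ∧ k h1 = algebraMap F E lam ∧ IsGen lam ∧
      ∀ i : ℕ, φ f ^ i = D.bar → (f : G) ^ i * h1 = h1 * (f : G) ^ i := by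
    obtain ⟨l, hl⟩ := D.exists_gen
    obtain ⟨h, hh, e⟩ := M.HF l hl.1
    by_cases h0 : ∃ s, φ s = D.bar
    · obtain ⟨s, hs⟩ := h0
      have h2 := conj_mem_of_mem_normalizer s.2.2 hh
      refine ⟨h * (s * h * (s : G)⁻¹), l * l, mul_mem hh h2, by rw [M.k_mul hh h2, kc s h hh, hs, e, D.fix', map_mul],
        D.gen_sq hl, fun i hi => ?_⟩
      have h3 := same (s * s) 1 (by rw [map_mul, hs, D.bar_mul_bar, map_one]) h hh
      rw [← mul_inv_eq_iff_eq_mul, ← Subgroup.coe_pow, same (f ^ i) s (by rw [map_pow, hi, hs]) _ (mul_mem hh h2),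
        M.Hab h hh _ h2]
      calc _ = (s * s :) * h * ((s * s :) : G)⁻¹ * (s * h * (s : G)⁻¹) := by simp [mul_assoc]
        _ = _ := by rw [h3, ← M.Hab h hh _ h2]; simp
    · exact ⟨h, l, hh, e, hl, fun i hi => absurd ⟨f ^ i, by rw [map_pow, hi]⟩ h0⟩
  obtain ⟨h0, h0H, nk, kap1⟩ := M.Hk
  have tC : t ∈ centralizer {t} := mem_centralizer_singleton_iff.2 rfl
  have tT : t ∈ T := zpowers_le.1 (hT.le_of_normalizes
    (isPGroup_zpowers_of_pow (k := 1) (by rw [pow_one, pow_two, tt])) (zpowers_le.2 tC)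
    (zpowers_le.2 (mem_normalizer_of_forall fun s hs => by
      rwa [← mem_centralizer_singleton_iff.1 (hT.le hs), mul_inv_cancel_right])))
  refine ⟨{ toCo := D, t := t, A := A, R := T ⊓ centralizer (A : Set G), T := T, H := H, f := f, h1 := h1, h0 := h0,
            k := k, α := φ f, lam := lam, kap := k h0, mod := M, tt := tt, t1 := t1,
            tR := ⟨tT, fun a ha => (tA a ha).symm⟩, memR := fun _ => Iff.rfl, nA := nA, syl := hT,
            QT := fun x y => QT (D.q_mem x y), fT := f.2.1, dec := fun g hg => ?_, fq := hχ f f.2.1,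
            fpow := fun i hi => ker (f ^ i) (by rw [map_pow, hi]), f1 := fun e => by rw [f1 e]; rfl,
            fH := fun h hh => conj_mem_of_mem_normalizer f.2.2 hh, h1H := h1H, k1 := k1, gen := gl, h0H := h0H,
            k0 := rfl, nk := nk, kap1 := kap1, fh := fh }, rfl, rfl, rfl, rfl, rfl⟩
  obtain ⟨p, hp, h2⟩ := M.frattini (TA hg) (TQ hg)
  obtain ⟨i, e⟩ := gen ⟨p * g, T.mul_mem (QT hp) hg, h2⟩
  have h3 := ker (⟨p * g, T.mul_mem (QT hp) hg, h2⟩ * (f ^ i)⁻¹) (by rw [map_mul, map_inv, map_pow, e, mul_inv_cancel])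
  obtain ⟨x, y, e1⟩ := inv_mem hp
  refine ⟨_, h3, x, y, i, ?_⟩
  rw [← e1, ← h3.2 _ (M.syl.le (inv_mem hp))]
  simp [mul_assoc]

theorem Co.Mod.exists_frH {D : Co F E G} {A H T : Subgroup G} {k : G → E} (M : D.Mod A H k) {t : G} (tt : t * t = 1)
    (t1 : t ≠ 1) (tA : ∀ a ∈ A, t * a = a * t) (nA : ∀ g : G, g * t = t * g → g ∈ normalizer (A : Set G))
    (hT : IsSylowIn 2 T (centralizer {t})) (hQ : D.Q = T ⊓ A) :
    ∃ D' : Fr F E G, D'.t = t ∧ D'.A = A ∧ D'.T = T ∧ D'.H = H ∧ D'.k = k := by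
  have := Fact.mk Nat.prime_two
  have TQ : ∀ g : T, (g : G) ∈ normalizer (D.Q : Set G) := fun g => mem_normalizer_of_forall fun s hs => by
    rw [hQ] at hs ⊢
    exact ⟨T.mul_mem (T.mul_mem g.2 hs.1) (T.inv_mem g.2),
      conj_mem_of_mem_normalizer (nA g (mem_centralizer_singleton_iff.1 (hT.le g.2))) hs.2⟩
  choose d γ β h1 h2 h3 h4 using fun g : T => D.act (TQ g)
  let _ : MulAction T E :=
    { smul := fun g x => d g * γ g x
      one_smul := fun x => by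
        obtain ⟨y, e⟩ := h3 1 x 0
        exact (D.q_inj (x' := d 1 * γ 1 x) (by simpa using e)).1.symm
      mul_smul := fun a b x => by
        obtain ⟨y, e⟩ := h3 (a * b) x 0
        obtain ⟨y1, e1⟩ := h3 b x 0
        obtain ⟨y2, e2⟩ := h3 a (d b * γ b x) y1
        rw [← e1, show ∀ u : G, a * (b * u * (b : G)⁻¹) * (a : G)⁻¹ = (a * b :) * u * ((a * b :) : G)⁻¹ from
          fun u => by simp [mul_assoc], e] at e2
        exact (D.q_inj e2).1 }
  obtain ⟨b, hb, b0⟩ := hT.pgroup.exists_fixed_point_of_prime_dvd_card_of_fixed_point E (by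
    obtain ⟨n, n2, e⟩ := D.exists_pow
    rw [D.card_E, e]
    exact dvd_pow (dvd_pow_self 2 (by omega)) two_ne_zero) (a := 0) fun g => by
      show d g * γ g 0 = 0
      rw [map_zero, mul_zero]
  obtain ⟨D', e1, e2, e3, M'⟩ := M.rescale b0.symm
  refine M'.exists_frH' tt t1 tA nA hT (e3.trans hQ) fun g hg => ⟨γ ⟨g, hg⟩, fun x y => ?_⟩
  obtain ⟨y', e⟩ := h3 ⟨g, hg⟩ (b * x) (D.nm b * y)
  refine ⟨(D.nm b)⁻¹ * y', ?_⟩
  rw [e2, e2, e, mul_inv_cancel_left₀ fun e => b0.symm (D.nm_eq_zero.1 e), map_mul, ← mul_assoc,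
    show d ⟨g, hg⟩ * γ ⟨g, hg⟩ b = b from hb ⟨g, hg⟩]

end CfsgLib.U3S
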